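import Cfsg.Agent.Lib.RootBlocks41.NonDeg.BadCase
import Cfsg.Agent.Lib.RootBlocks41.Odd

/-!
# Blocks exclude products of order four
-/

set_option autoImplicit false
set_option linter.unusedSectionVars false

namespace Cfsg.Agent.Lib.RootBlocks41

open Cfsg.Agent.Lib.Elem70

universe u

variable {G : Type u} [Group G] [Finite G] {D : Set G} {R : G → G → Prop}

theorem odd_ncard_of_fixed (hD : Cfsg.IsRootInvolutionSet D)
    (hcl : ∀ a ∈ D, ∀ b ∈ D, ∃ g, b = g * a * g⁻¹) {a : G} (ha : a ∈ D) (S : Sylow 2 G)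
    (hfix : ∀ s ∈ S, Commute s a) : Odd D.ncard := by
  haveI : Fact (Nat.Prime 2) := ⟨Nat.prime_two⟩
  set C := Subgroup.centralizer ({a} : Set G) with hC
  have hwd : ∀ g g' : G, g⁻¹ * g' ∈ C ↔ g * a * g⁻¹ = g' * a * g'⁻¹ := by
    intro g g'
    rw [hC, Subgroup.mem_centralizer_singleton_iff]
    constructor
    · intro h
      calc g * a * g⁻¹ = g * (a * (g⁻¹ * g')) * g'⁻¹ := by simp [mul_assoc]
        _ = g * (g⁻¹ * g' * a) * g'⁻¹ := by rw [h]
        _ = g' * a * g'⁻¹ := by simp [mul_assoc]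
    · intro h
      calc g⁻¹ * g' * a = g⁻¹ * (g' * a * g'⁻¹) * g' := by simp [mul_assoc]
        _ = g⁻¹ * (g * a * g⁻¹) * g' := by rw [h]
        _ = a * (g⁻¹ * g') := by simp [mul_assoc]
  let f : G ⧸ C → {d : G // d ∈ D} := fun c => Quotient.liftOn' c
    (fun g => ⟨g * a * g⁻¹, conj_self hD g ha⟩) fun g g' h =>
      Subtype.ext ((hwd g g').mp (QuotientGroup.leftRel_apply.mp h))
  have hf : Function.Bijective f := by
    constructor
    · intro c c'
      refine Quotient.inductionOn₂' c c' fun g g' e => ?_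
      exact Quotient.sound' (QuotientGroup.leftRel_apply.mpr
        ((hwd g g').mpr (congrArg Subtype.val e)))
    · rintro ⟨d, hd⟩
      obtain ⟨g, rfl⟩ := hcl a ha d hd
      exact ⟨QuotientGroup.mk g, rfl⟩
  rw [← Nat.card_coe_set_eq, show Nat.card (D : Set G) = Nat.card {d : G // d ∈ D} from rfl,
    ← Nat.card_eq_of_bijective f hf, ← Subgroup.index]
  have hle : (S : Subgroup G) ≤ C := fun s hs =>
    Subgroup.mem_centralizer_singleton_iff.mpr (hfix s hs).eq
  have h2 : Odd (S : Subgroup G).index := by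
    rw [← Nat.not_even_iff_odd, even_iff_two_dvd]; exact S.not_dvd_index
  exact h2.of_dvd_nat (Subgroup.index_dvd_of_le hle)

theorem Blocks.oddBlocks_of_odd (h : Blocks D R) (hodd : Odd D.ncard) : OddBlocks D R := by
  classical
  intro a ha
  set s := (Set.toFinite D).toFinset with hs
  have hms : ∀ x, x ∈ s ↔ x ∈ D := fun x => by rw [hs, Set.Finite.mem_toFinset]
  have hfib : ∀ c ∈ D, (s.filter fun x => cls D R x = cls D R c).card = (cls D R a).ncard := by
    intro c hc
    have e : (↑(s.filter fun x => cls D R x = cls D R c) : Set G) = cls D R c := by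
      ext x
      simp only [Finset.coe_filter, hms, Set.mem_setOf_eq]
      constructor
      · rintro ⟨hx, e⟩
        rw [← e]; exact ⟨hx, h.self hx⟩
      · rintro ⟨hx, hr⟩
        exact ⟨hx, (h.rel_cls hc hx hr).symm⟩
    rw [← Set.ncard_coe_finset, e]
    obtain ⟨g, rfl⟩ := h.cl a ha c hc
    rw [← Set.ncard_image_of_injective (cls D R a) (RootInv12.conj_injective g)]
    congr 1
    ext x
    constructor
    · rintro ⟨hx, hr⟩
      refine ⟨g⁻¹ * x * g, ⟨by simpa using conj_self h.hD g⁻¹ hx, ?_⟩, by simp [mul_assoc]⟩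
      have := h.conj (conj_self h.hD g ha) hx hr g⁻¹
      simpa [mul_assoc] using this
    · rintro ⟨y, ⟨hy, hr⟩, rfl⟩
      exact ⟨conj_self h.hD g hy, h.conj ha hy hr g⟩
  have hsum := Finset.card_eq_sum_card_image (fun x => cls D R x) s
  rw [Finset.sum_congr rfl (g := fun _ => (cls D R a).ncard) (fun y hy => ?_), Finset.sum_const,
    smul_eq_mul] at hsum
  · rw [Set.ncard_eq_toFinset_card _ (Set.toFinite _), ← hs, hsum, Nat.odd_mul] at hodd
    exact hodd.2
  · obtain ⟨c, hc, rfl⟩ := Finset.mem_image.mp hy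
    exact hfib c ((hms c).mp hc)

theorem no_four_aux (hP : BenderOne.PropSplit.{u}) : ∀ (n : ℕ) (G : Type u) [Group G] [Finite G]
    (D : Set G) (R : G → G → Prop), Nat.card G = n → Blocks D R → ¬ HasFour D := by
  intro n
  induction n using Nat.strong_induction_on with
  | _ n ih =>
    intro G _ _ D R hn h hf
    have hl := h.hasLine_of_four hf
    by_cases hs : IsSimpleGroup G
    · have hnc : NCrit D R := by
        refine ⟨h, hf, hs, fun v hv a ha b hb h4 => ?_⟩
        refine ih _ (hn ▸ h.card_cv_lt hs hv) ↥(Subgroup.closure (Cv D v)) _ _ rfl (h.sub_cv hv)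
          ⟨⟨a, Subgroup.subset_closure ha⟩, ha, ⟨b, Subgroup.subset_closure hb⟩, hb, ?_⟩
        rw [← Subgroup.orderOf_coe]
        exact h4
      obtain ⟨a, ha, b, hb, h4⟩ := id hf
      obtain ⟨S, hS⟩ := exists_sylow_mem h.hD ha
      obtain ⟨c, hc, hfix⟩ := exists_fixed h.hD ⟨a, hS⟩ fun p hp q hq hne =>
        hnc.central_line hp hq hne
      have hodd := h.oddBlocks_of_odd (odd_ncard_of_fixed h.hD h.cl hc S hfix)
      have hR : R a b := by
        rcases trichotomy h.hD ha hb with hcm | ho | ⟨-, hg⟩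
        · exact h.comm ha hb hcm
        · have := ho.2.2.2; rw [h4] at this; exact absurd this (by decide)
        · exact h.of_four ha hb h4 hg
      exact RootInv.not_comm_of_four h.hD ha hb h4 (h.related_commute hP hodd hl ha hb hR).eq
    · obtain ⟨N, hN, hbot, htop⟩ : ∃ N : Subgroup G, N.Normal ∧ N ≠ ⊥ ∧ N ≠ ⊤ := by
        by_contra hno
        push Not at hno
        haveI := h.nontrivial
        exact hs ⟨fun N hN => or_iff_not_imp_left.mpr (hno N hN)⟩
      haveI := hN
      have hDN : ∀ d ∈ D, d ∉ N := fun d hd hdN => htop (h.eq_top_of_mem hd hdN)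
      have hlt : Nat.card (G ⧸ N) < n := by
        rw [← hn, Subgroup.card_eq_card_quotient_mul_card_subgroup N]
        exact lt_mul_of_one_lt_right Nat.card_pos (N.one_lt_card_iff_ne_bot.mpr hbot)
      exact ih _ hlt (G ⧸ N) _ _ rfl (h.quot hl hDN) (h.quot_hasFour hl hf hDN)

/-- Blocks exclude products of order four. -/
theorem Blocks.no_four (hP : BenderOne.PropSplit.{u}) (h : Blocks D R) : ¬ HasFour D :=
  no_four_aux hP _ G D R rfl h

end Cfsg.Agent.Lib.RootBlocks41
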