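import Cfsg.Agent.Lib.RootBlocks41.Basic
import Cfsg.Agent.Lib.RootInv12.Orbit

/-!
# Conjugates of a member under an odd pair it is not adjacent to
-/

set_option autoImplicit false
set_option linter.unusedSectionVars false

namespace Cfsg.Agent.Lib.RootBlocks41

open Cfsg.Agent.Lib.Elem70

variable {G : Type*} [Group G] {D : Set G} (hD : Cfsg.IsRootInvolutionSet D)
include hD

/-- A member commuting with one end of an odd pair and not adjacent to the other commutes with its
conjugates under the pair. -/
theorem commute_conj_pair {a y j : G} (ha : a ∈ D) (hjy : Cfsg.OddAdj D j y) (haj : Commute a j)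
    (hay : ¬ Cfsg.OddAdj D a y) {h : G} (hh : h ∈ Subgroup.closure ({j, y} : Set G)) :
    Commute a (h * a * h⁻¹) := by
  have hj := hjy.1
  have hy := hjy.2.1
  have fixed : ∀ {b : G}, Commute b a → b * a * b⁻¹ = a := fun hb => by rw [hb.eq, mul_inv_cancel_right]
  rcases trichotomy hD ha hy with hc | ho | ⟨h4, hg⟩
  · have hle : Subgroup.closure ({j, y} : Set G) ≤ Subgroup.centralizer {a} := by
      rw [Subgroup.closure_le]
      rintro b (rfl | rfl) <;> exact Subgroup.mem_centralizer_singleton_iff.mpr (by
        first | exact haj.eq.symm | exact hc.eq.symm)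
    rw [fixed (Subgroup.mem_centralizer_singleton_iff.mp (hle hh))]
  · exact absurd ho hay
  · obtain ⟨hga, hgy, -, hgY⟩ := sq_facts hD ha hy h4 hg
    set u := (a * y) ^ 2 with hu
    have hgj : ¬ Cfsg.OddAdj D j u := fun hadj => by
      have hua : u ∈ Cfsg.productPartners D a :=
        RootInvolutions.sq_mem_productPartners hD ha hy h4 hg
      exact RootInvolutions.ne_one hD ha (parity hD (RootInvolutions.adj_symm hD hadj) hua.2
        hga.symm haj (RootInvolutions.mul_self hD ha))
    have cfg : RootInv12.Orbit.Cfg D j y u := ⟨hD, hg, hgy, hgY.2, hjy, hgj⟩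
    have hyy := RootInvolutions.mul_self hD hy
    have haa := RootInvolutions.mul_self hD ha
    have hya : y * a * y⁻¹ = a * u := by
      rw [RootInvolutions.inv_self hD hy, hu, sq]
      simp only [← mul_assoc, haa, one_mul]
    -- `a` commutes with the orbit
    have hjju : j * u * j⁻¹ = RootInv12.Orbit.cj j y 1 u := by
      rw [RootInv12.Orbit.cj, zpow_one, RootInvolutions.inv_self hD hj, mul_inv_rev,
        RootInvolutions.inv_self hD hj, RootInvolutions.inv_self hD hy]
      simp only [mul_assoc]
      rw [← mul_assoc u y j, hgy.eq, mul_assoc y u j, ← mul_assoc y y, hyy, one_mul]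
    have stepy : ∀ k : ℤ, Commute a (RootInv12.Orbit.cj j y k u) →
        Commute a (RootInv12.Orbit.cj j y (-k) u) := by
      intro k hk
      rw [← RootInv12.Orbit.c_cj cfg k]
      have h1 : Commute (y * (a * u) * y⁻¹) (y * RootInv12.Orbit.cj j y k u * y⁻¹) :=
        RootInv12.commute_conj (hk.mul_left (RootInv12.Orbit.orb_comm cfg
          (RootInv12.Orbit.mem_orb cfg) (RootInv12.Orbit.orb_gen cfg k))) y
      rwa [RootInv12.conj_mul', hya, show y * u * y⁻¹ = u by rw [hgy.symm.eq, mul_inv_cancel_right], mul_assoc,
        RootInvolutions.mul_self hD hg, mul_one] at h1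
    have stepj : ∀ k : ℤ, Commute a (RootInv12.Orbit.cj j y (-k) u) →
        Commute a (RootInv12.Orbit.cj j y (k + 1) u) := by
      intro k hk
      have h1 := RootInv12.commute_conj hk j
      rw [fixed haj.symm] at h1
      have e : j * RootInv12.Orbit.cj j y (-k) u * j⁻¹ = RootInv12.Orbit.cj j y (k + 1) u := by
        rw [← RootInv12.Orbit.c_cj cfg k, RootInv12.conj_conj, add_comm, ← RootInv12.Orbit.cj_cj]
        simp only [RootInv12.Orbit.cj, zpow_one]
      rwa [e] at h1
    have hnat : ∀ m : ℕ, Commute a (RootInv12.Orbit.cj j y m u) := by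
      intro m
      induction m with
      | zero => rw [Nat.cast_zero, RootInv12.Orbit.cj_zero]; exact hga.symm
      | succ m ih => rw [Nat.cast_succ]; exact stepj _ (stepy _ ih)
    have hint : ∀ k : ℤ, Commute a (RootInv12.Orbit.cj j y k u) := by
      intro k
      obtain ⟨m, rfl | rfl⟩ := Int.eq_nat_or_neg k
      · exact hnat m
      · exact stepy _ (hnat m)
    have horb : ∀ o ∈ RootInv12.Orbit.orb j y u, Commute a o := by
      intro o ho
      have : RootInv12.Orbit.orb j y u ≤ Subgroup.centralizer {a} := by
        rw [RootInv12.Orbit.orb, Subgroup.closure_le]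
        rintro _ ⟨k, rfl⟩
        exact Subgroup.mem_centralizer_singleton_iff.mpr (hint k).eq.symm
      exact (Subgroup.mem_centralizer_singleton_iff.mp (this ho)).symm
    have hpo : ∀ p ∈ Subgroup.closure ({j, y} : Set G), ∀ o ∈ RootInv12.Orbit.orb j y u,
        p * o * p⁻¹ ∈ RootInv12.Orbit.orb j y u := by
      intro p hp
      induction hp using Subgroup.closure_induction'' with
      | one => intro o ho; simpa using ho
      | mem w hw =>
        intro o ho
        rcases hw with rfl | rfl
        · exact RootInv12.Orbit.x_orb cfg ho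
        · exact RootInv12.Orbit.c_orb cfg ho
      | inv_mem w hw =>
        intro o ho
        rcases hw with rfl | rfl
        · have := RootInv12.Orbit.x_orb cfg ho
          simpa [RootInvolutions.inv_self hD hj] using this
        · have := RootInv12.Orbit.c_orb cfg ho
          simpa [RootInvolutions.inv_self hD hy] using this
      | mul r s _ _ ihr ihs => intro o ho; rw [← RootInv12.conj_conj]; exact ihr _ (ihs o ho)
    suffices ∃ o ∈ RootInv12.Orbit.orb j y u, h * a * h⁻¹ = a * o by
      obtain ⟨o, ho, e⟩ := this
      rw [e]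
      exact (Commute.refl a).mul_right (horb o ho)
    induction hh using Subgroup.closure_induction'' with
    | one => exact ⟨1, one_mem _, by simp⟩
    | mem w hw =>
      rcases hw with rfl | rfl
      · exact ⟨1, one_mem _, by rw [fixed haj.symm, mul_one]⟩
      · exact ⟨u, RootInv12.Orbit.mem_orb cfg, hya⟩
    | inv_mem w hw =>
      rcases hw with rfl | rfl
      · exact ⟨1, one_mem _, by
          rw [inv_inv, RootInvolutions.inv_self hD hj]
          have := fixed haj.symm
          rw [RootInvolutions.inv_self hD hj] at this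
          rw [this, mul_one]⟩
      · exact ⟨u, RootInv12.Orbit.mem_orb cfg, by
          rw [inv_inv, RootInvolutions.inv_self hD hy]
          rwa [RootInvolutions.inv_self hD hy] at hya⟩
    | mul p q hp _ ihp ihq =>
      obtain ⟨o, ho, e⟩ := ihp
      obtain ⟨o', ho', e'⟩ := ihq
      refine ⟨o * (p * o' * p⁻¹), mul_mem ho (hpo p hp o' ho'), ?_⟩
      rw [← RootInv12.conj_conj, e', RootInv12.conj_mul', e, mul_assoc]

end Cfsg.Agent.Lib.RootBlocks41
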