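import Cfsg.Agent.Lib.RootBlocks41.NonDeg.Sylow
import Cfsg.Agent.Lib.RootBlocks41.NonDeg.OrbitCommute
import Cfsg.Agent.Lib.RootBlocks41.TwoGroup

/-!
# Two central members of a Sylow subgroup with product outside the class
-/

set_option autoImplicit false
set_option linter.unusedSectionVars false

namespace Cfsg.Agent.Lib.RootBlocks41

open Cfsg.Agent.Lib.Elem70

variable {G : Type*} [Group G] {D : Set G} {R : G → G → Prop}

/-- Powers are congruent modulo a normalised subgroup. -/
theorem pow_mul_mem (N : Subgroup G) {z s : G} (hz : ∀ x ∈ N, z⁻¹ * x * z ∈ N) (hs : s ∈ N)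
    (k : ℕ) : (z ^ k)⁻¹ * (z * s) ^ k ∈ N := by
  induction k with
  | zero => simp
  | succ k ih =>
    have e : (z ^ (k + 1))⁻¹ * (z * s) ^ (k + 1) =
        (z⁻¹ * ((z ^ k)⁻¹ * (z * s) ^ k) * z) * s := by
      rw [pow_succ z, pow_succ (z * s), mul_inv_rev]
      simp only [mul_assoc]
    rw [e]
    exact mul_mem (hz _ ih) hs

namespace NCrit

variable [Finite G] (n : NCrit D R) {S : Sylow 2 G}
include n

theorem partners_subset {a : G} (ha : a ∈ CentralIn D S) :
    Cfsg.productPartners D a ⊆ InSylow D S := by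
  haveI : Fact (Nat.Prime 2) := ⟨Nat.prime_two⟩
  have hD := n.blocks.hD
  set X := Cfsg.productPartners D a with hX
  have hnadj : ∀ z ∈ X, ∀ u ∈ X, ¬ Cfsg.OddAdj D z u := fun z hz u hu h =>
    RootInvolutions.ne_one hD ha.1.1 (parity hD h hz.2 (Eq.symm hz.1.2.1) (Eq.symm hu.1.2.1)
      (RootInvolutions.mul_self hD ha.1.1))
  have hconj : ∀ g : G, Commute g a → ∀ z ∈ X, g * z * g⁻¹ ∈ X := by
    intro g hg z hz
    have ea : g * a * g⁻¹ = a := by rw [hg.eq, mul_inv_cancel_right]
    refine ⟨⟨conj_self hD g hz.1.1, ?_, fun e => hz.1.2.2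
      (RootInv12.conj_injective g (e.trans ea.symm))⟩, ?_⟩
    · have := RootInv12.commute_conj hz.1.2.1 g; rwa [ea] at this
    · have := conj_self hD g hz.2; rwa [RootInv12.conj_mul', ea] at this
  have hP : IsPGroup 2 (Subgroup.closure X) :=
    isPGroup_closure_of_pow_four (fun z hz => hD.orderOf_eq z hz.1.1)
      (fun z hz u hu => hconj z hz.1.2.1 u hu) fun z hz u hu =>
        RootInvolutions.pow_four_of_not_adj hD hz.1.1 hu.1.1 (hnadj z hz u hu)
  set K := Subgroup.closure (InSylow D S)
  have hK : IsPGroup 2 K := S.2.to_le ((Subgroup.closure_le _).mpr fun x hx => hx.2)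
  have hnorm : K ≤ Subgroup.normalizer (Subgroup.closure X : Set G) := by
    have hmap : ∀ g : G, Commute g a → ∀ y ∈ Subgroup.closure X,
        g * y * g⁻¹ ∈ Subgroup.closure X := by
      intro g hg y hy
      induction hy using Subgroup.closure_induction with
      | mem y hy => exact Subgroup.subset_closure (hconj g hg y hy)
      | one => simp
      | mul p q _ _ hp hq => rw [RootInv12.conj_mul']; exact mul_mem hp hq
      | inv p _ hp => rw [← conj_inv]; exact inv_mem hp
    rw [Subgroup.closure_le]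
    intro d hd
    rw [SetLike.mem_coe, Subgroup.mem_normalizer_iff]
    intro y
    refine ⟨hmap d (ha.2 d hd).symm y, fun hy => ?_⟩
    have := hmap d⁻¹ (ha.2 d hd).symm.inv_left _ hy
    simpa [mul_assoc] using this
  intro z hz
  refine mem_inSylow_of_two_group hD (hP.to_sup_of_normal_left' hK hnorm)
    (fun x hx => Subgroup.mem_sup_right (Subgroup.subset_closure hx)) hz.1.1
    (Subgroup.mem_sup_left (Subgroup.subset_closure hz))

/-- The central members multiply into the class. -/
theorem central_line {a b : G} (ha : a ∈ CentralIn D S) (hb : b ∈ CentralIn D S) (hne : a ≠ b) :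
    a * b ∈ D := by
  haveI : Fact (Nat.Prime 2) := ⟨Nat.prime_two⟩
  by_contra ht
  have h := n.blocks
  have hD := h.hD
  have haD := ha.1.1
  have hbD := hb.1.1
  have hab : Commute a b := ha.2 b hb.1
  set t := a * b with htdef
  have htt : t * t = 1 := mul_self_of_commute hD haD hbD hab
  have ht1 : t ≠ 1 := mul_ne_one' hD hbD hne
  have hlab := n.linked_of_commute haD hbD hab
  -- equal neighbours
  have hsub : RootInv12.nbrs D a ⊆ RootInv12.nbrs D b := by
    intro y hy
    rcases trichotomy hD hy.1 hbD with hc | ho | ⟨h4, hg⟩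
    · exfalso
      have hcomm : ∀ e, Linked D a e → Commute b e := by
        intro e he
        obtain ⟨g, hg, rfl⟩ := conj_mem_gen hD n.conn (RootInvolutions.adj_symm hD hy) he
        have hle : Subgroup.closure (Cfsg.productPartners D a ∪ {y}) ≤
            Subgroup.centralizer {b} := by
          rw [Subgroup.closure_le]
          rintro z (hz | rfl)
          · exact Subgroup.mem_centralizer_singleton_iff.mpr
              (hb.2 z (n.partners_subset ha hz)).eq.symm
          · exact Subgroup.mem_centralizer_singleton_iff.mpr hc.eq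
        have hgb : Commute g b := Subgroup.mem_centralizer_singleton_iff.mp (hle hg)
        exact (hgb.symm.mul_right hab.symm).mul_right hgb.symm.inv_right
      obtain ⟨u, hu, h4, hg⟩ := four_partner hD h.cl n.four hbD
      exact RootInv.not_comm_of_four hD hbD hu h4
        (hcomm u (hlab.trans (linked_of_four hD hbD hu h4 hg))).eq
    · exact ho
    · exfalso
      obtain ⟨hgy, hgb, hgY, hgB⟩ := sq_facts hD hy.1 hbD h4 hg
      exact RootInvolutions.ne_one hD hg (parity hD hy (hgy.eq ▸ hgY.2) hgy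
        (ha.2 _ (n.partners_subset hb hgB)).symm (RootInvolutions.mul_self hD hg))
  have hnb : RootInv12.nbrs D a = RootInv12.nbrs D b :=
    RootInv12.nbrs_eq_of_subset hD h.cl haD hbD hsub
  -- a member of the Sylow subgroup giving a bad involution
  set K := Subgroup.closure (InSylow D S)
  set C := Subgroup.centralizer ({t} : Set G)
  have hKC : K ≤ C := by
    rw [Subgroup.closure_le]
    exact fun d hd => Subgroup.mem_centralizer_singleton_iff.mpr
      ((ha.2 d hd).symm.mul_right (hb.2 d hd).symm).eq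
  have hK : IsPGroup 2 K := S.2.to_le ((Subgroup.closure_le _).mpr fun x hx => hx.2)
  obtain ⟨x, hx, hm⟩ := h.exists_moved n.simple ht1
  obtain ⟨j0, hj0, hj0t, hj0x, hj0c, -⟩ := h.exists_mid_of_moved htt hx hm
  have hbad0 := h.bad_of_mid htt hx hj0 (fun e => ht (e ▸ hj0)) hj0t hj0x hj0c
  obtain ⟨P, hP⟩ := (hK.comap_subtype (K := C)).exists_le_sylow
  obtain ⟨P', hP'⟩ := (IsPGroup.of_card (p := 2) (n := 1) (by
    rw [Nat.card_zpowers, ← Subgroup.orderOf_coe]
    simpa using hD.orderOf_eq j0 hj0) : IsPGroup 2 (Subgroup.zpowers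
      (⟨j0, Subgroup.mem_centralizer_singleton_iff.mpr hj0t.eq⟩ : C))).exists_le_sylow
  obtain ⟨k, hk⟩ := MulAction.exists_smul_eq C P' P
  set j := (k : G) * j0 * (k : G)⁻¹ with hjdef
  have hjS : j ∈ InSylow D S := by
    refine mem_inSylow_of_two_group hD (P := (P : Subgroup C).map C.subtype) (P.2.map _) ?_
      (conj_self hD _ hj0) ?_
    · intro d hd
      exact ⟨⟨d, hKC (Subgroup.subset_closure hd)⟩, hP (Subgroup.subset_closure hd), rfl⟩
    · refine ⟨k * ⟨j0, Subgroup.mem_centralizer_singleton_iff.mpr hj0t.eq⟩ * k⁻¹, ?_, rfl⟩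
      rw [← hk, Sylow.coe_subgroup_smul]
      exact ⟨_, hP' (Subgroup.mem_zpowers _), rfl⟩
  have hjD := hjS.1
  have hkt : Commute (k : G) t := Subgroup.mem_centralizer_singleton_iff.mp k.2
  have hbad : Bad D R (t * j) := by
    have := h.bad_conj hbad0 (k : G)
    rwa [RootInv12.conj_mul', hkt.eq, mul_inv_cancel_right] at this
  set i := t * j with hi
  have hja : Commute j a := (ha.2 j hjS).symm
  have hjb : Commute j b := (hb.2 j hjS).symm
  have hjt : Commute j t := hja.mul_right hjb
  have hcv : ∀ {z}, z ∈ D → Commute z a → Commute z b → Commute z j → z ∈ Cv D i :=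
    fun hz h1 h2 h3 => ⟨hz, (h1.mul_right h2).mul_right h3⟩
  have haC := hcv haD (Commute.refl a) hab hja.symm
  -- `j` is not central
  obtain ⟨w, hw, hwj⟩ : ∃ w ∈ InSylow D S, ¬ Commute j w := by
    by_contra hall
    push Not at hall
    obtain ⟨z, hz, u, hu, h4⟩ := four_in_partners hD h.cl n.four haD
    have hin : ∀ z ∈ Cfsg.productPartners D a, z ∈ Cv D i := fun z hz =>
      hcv hz.1.1 hz.1.2.1 (hb.2 z (n.partners_subset ha hz)).symm
        (hall z (n.partners_subset ha hz)).symm
    exact n.nofour i hbad z (hin z hz) u (hin u hu) h4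
  obtain ⟨h4, hgS⟩ := sq_in_sylow hD hjS hw hwj
  obtain ⟨hgj, -, hgJ, -⟩ := sq_facts hD hjD hw.1 h4 hgS.1
  have hl : Lineful D i := ⟨j, hcv hjD hja hjb (Commute.refl j), _,
    hcv hgS.1 (ha.2 _ hgS).symm (hb.2 _ hgS).symm hgj, hgJ⟩
  -- a neighbour of `j` that is none of `a`
  obtain ⟨y, hyj, hya⟩ : ∃ y, Cfsg.OddAdj D y j ∧ ¬ Cfsg.OddAdj D y a := by
    refine RootInv12.exists_adj_not_adj hD h.cl hjD haD fun e => hwj ?_
    exact (RootInv12.commute_of_nbrs_eq hD h.cl hjD haD e hw.1 (ha.2 w hw).symm).symm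
  have hjy := RootInvolutions.adj_symm hD hyj
  have hay : ¬ Cfsg.OddAdj D a y := fun e => hya (RootInvolutions.adj_symm hD e)
  have hyD := hyj.1
  -- the abelian group of conjugates
  set W := Subgroup.closure ({j, y} : Set G) with hW
  set U : Set G := {e | ∃ g ∈ W, e = g * a * g⁻¹ ∨ e = g * b * g⁻¹} with hU
  have hUconj : ∀ g ∈ W, ∀ e ∈ U, g * e * g⁻¹ ∈ U := by
    rintro g hg e ⟨g', hg', rfl | rfl⟩ <;> rw [RootInv12.conj_conj]
    · exact ⟨g * g', mul_mem hg hg', Or.inl rfl⟩
    · exact ⟨g * g', mul_mem hg hg', Or.inr rfl⟩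
  have haa' : ∀ g ∈ W, ∀ g' ∈ W, Commute (g * a * g⁻¹) (g' * a * g'⁻¹) := by
    intro g hg g' hg'
    have h1 := RootInv12.commute_conj
      (commute_conj_pair hD haD hjy hja.symm hay (mul_mem (inv_mem hg) hg')) g
    rwa [RootInv12.conj_conj, ← mul_assoc, mul_inv_cancel, one_mul] at h1
  have hab' : ∀ g ∈ W, ∀ g' ∈ W, Commute (g' * a * g'⁻¹) (g * b * g⁻¹) := by
    intro g hg g' hg'
    exact RootInv12.commute_of_nbrs_eq hD h.cl (conj_self hD g hbD) (conj_self hD g haD)
      (RootInv12.nbrs_conj_congr hD hnb.symm g) (conj_self hD g' haD) (haa' g' hg' g hg)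
  have hUcomm : ∀ e ∈ U, ∀ f ∈ U, e * f = f * e := by
    rintro e ⟨g, hg, rfl | rfl⟩ f ⟨g', hg', rfl | rfl⟩
    · exact haa' g hg g' hg'
    · exact hab' g' hg' g hg
    · exact (hab' g hg g' hg').symm
    · exact RootInv12.commute_of_nbrs_eq hD h.cl (conj_self hD g' hbD) (conj_self hD g' haD)
        (RootInv12.nbrs_conj_congr hD hnb.symm g') (conj_self hD g hbD) (hab' g hg g' hg').symm
  set R0 := Subgroup.closure U with hR0
  have hsq : ∀ s ∈ R0, s * s = 1 := by
    intro s hs
    induction hs using Subgroup.closure_induction with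
    | mem e he =>
      obtain ⟨g, -, rfl | rfl⟩ := he
      · exact RootInvolutions.mul_self hD (conj_self hD g haD)
      · exact RootInvolutions.mul_self hD (conj_self hD g hbD)
    | one => simp
    | mul p q hp hq ihp ihq =>
      have hc : Commute q p := by
        haveI := Subgroup.isMulCommutative_closure hUcomm
        exact congrArg Subtype.val (mul_comm' (M := ↥R0) ⟨q, hq⟩ ⟨p, hp⟩)
      rw [hc.mul_mul_mul_comm, ihp, ihq, one_mul]
    | inv p _ ih => rw [← mul_inv_rev, ih, inv_one]
  have hR0conj : ∀ g ∈ W, ∀ s ∈ R0, g * s * g⁻¹ ∈ R0 := by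
    intro g hg s hs
    induction hs using Subgroup.closure_induction with
    | mem e he => exact Subgroup.subset_closure (hUconj g hg e he)
    | one => simp
    | mul p q _ _ hp hq => rw [RootInv12.conj_mul']; exact mul_mem hp hq
    | inv p _ hp => rw [← conj_inv]; exact inv_mem hp
  have hR0a : ∀ s ∈ R0, Commute s a := by
    intro s hs
    have : R0 ≤ Subgroup.centralizer {a} := by
      rw [hR0, Subgroup.closure_le]
      intro e he
      exact Subgroup.mem_centralizer_singleton_iff.mpr
        (hUcomm e he a ⟨1, one_mem _, Or.inl (by simp)⟩)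
    exact Subgroup.mem_centralizer_singleton_iff.mp (this hs)
  have htR : t ∈ R0 := mul_mem (Subgroup.subset_closure ⟨1, one_mem _, Or.inl (by simp)⟩)
    (Subgroup.subset_closure ⟨1, one_mem _, Or.inr (by simp)⟩)
  have hyW : y ∈ W := Subgroup.subset_closure (Or.inr rfl)
  have hjW : j ∈ W := Subgroup.subset_closure (Or.inl rfl)
  set r := y * j with hr
  have hrW : r ∈ W := mul_mem hyW hjW
  have hrodd : Odd (orderOf r) := hyj.2.2.2
  have hr1 : r ≠ 1 := fun e => hyj.2.2.1 (by
    rw [eq_inv_of_mul_eq_one_left e, RootInvolutions.inv_self hD hjD])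
  have jj := RootInvolutions.mul_self hD hjD
  have yy := RootInvolutions.mul_self hD hyD
  set y' := i * y * i⁻¹ with hy'
  have hy'D : y' ∈ D := conj_self hD i hyD
  have hii := hbad.1
  have hz : y * y' = r ^ 2 * (((j * y * j) * t * (j * y * j)⁻¹) * t) := by
    rw [hy', inv_of_mul_self hii, hi, sq, hr]
    simp only [mul_inv_rev, RootInvolutions.inv_self hD hyD, RootInvolutions.inv_self hD hjD,
      mul_assoc]
    have ejt : ∀ x : G, j * (t * x) = t * (j * x) := fun x => by
      rw [← mul_assoc, hjt.eq, mul_assoc]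
    have e2 : ∀ x : G, j * (j * x) = x := fun x => by rw [← mul_assoc, jj, one_mul]
    have e3 : ∀ x : G, y * (y * x) = x := fun x => by rw [← mul_assoc, yy, one_mul]
    simp only [ejt, e2, e3, hjt.eq]
  have hsR : ((j * y * j) * t * (j * y * j)⁻¹) * t ∈ R0 :=
    mul_mem (hR0conj _ (mul_mem (mul_mem hjW hyW) hjW) t htR) htR
  set s0 := ((j * y * j) * t * (j * y * j)⁻¹) * t
  have hzconj : ∀ x ∈ R0, (r ^ 2)⁻¹ * x * r ^ 2 ∈ R0 := fun x hx => by
    simpa using hR0conj _ (inv_mem (pow_mem hrW 2)) x hx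
  have hpow : ∀ m : ℕ, ∃ s ∈ R0, (y * y') ^ m = r ^ (2 * m) * s := fun m =>
    ⟨_, pow_mul_mem R0 hzconj hsR m, by rw [hz, pow_mul, mul_inv_cancel_left]⟩
  rcases Classical.em (Cfsg.OddAdj D y y') with ho | hno
  · obtain ⟨hrD, hri, hyr, hrr⟩ := mid_moved hD hii (hy' ▸ ho)
    rw [← hy'] at hrD hri hyr hrr
    obtain ⟨m, hm, hmid⟩ := mid_pow hD ho
    obtain ⟨s1, hs1, e1⟩ := hpow (2 * m + 1)
    rw [← hm, pow_orderOf_eq_one, hm] at e1
    have hz1 : r ^ (2 * m + 1) = 1 := by
      refine RootInv12.odd_pow_eq (Odd.of_dvd_nat hrodd (orderOf_pow_dvd _)) (i := 2) ?_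
      have hmem : r ^ (2 * (2 * m + 1)) ∈ R0 := by
        rw [eq_inv_of_mul_eq_one_left e1.symm]; exact inv_mem hs1
      rw [← pow_mul, show (2 * m + 1) * 2 ^ 2 = 2 * (2 * m + 1) + 2 * (2 * m + 1) by ring, pow_add]
      exact hsq _ hmem
    obtain ⟨s2, hs2, e2⟩ := hpow m
    have hrj : r ^ (2 * m) * y = j := by
      have : r ^ (2 * m) = r⁻¹ := eq_inv_of_mul_eq_one_left (by rw [← pow_succ]; exact hz1)
      rw [this, hr, mul_inv_rev, RootInvolutions.inv_self hD hjD, RootInvolutions.inv_self hD hyD,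
        mul_assoc, yy, mul_one]
    have hmida : Commute (mid y y') a := by
      have e : mid y y' = j * (y * s2 * y⁻¹) := by
        rw [hmid, e2, ← hrj, RootInvolutions.inv_self hD hyD]
        simp only [mul_assoc]
        rw [← mul_assoc y y, yy, one_mul]
      rw [e]
      exact hja.mul_left (hR0a _ (hR0conj y hyW s2 hs2))
    have hbad' := h.bad_mul_member n.simple hbad hrD hri
    set q := mid y y'
    have hyv : Commute y (i * q) := by
      have e : q * y = y' * q := by
        rw [← hrr, mul_assoc _ q q, RootInvolutions.mul_self hD hrD, mul_one]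
      show y * (i * q) = i * q * y
      symm
      calc i * q * y = i * (y' * q) := by rw [mul_assoc, e]
        _ = i * i * (y * (i * q)) := by
          rw [hy', inv_of_mul_self hii]; simp only [mul_assoc]
        _ = y * (i * q) := by rw [hii, one_mul]
    have haq : a ∈ Cv D (i * q) := ⟨haD, haC.2.mul_right hmida.symm⟩
    have hyq : y ∈ Cv D (i * q) := ⟨hyD, hyv⟩
    have hqq : q ∈ Cv D (i * q) := ⟨hrD, hri.mul_right (Commute.refl q)⟩
    have hya' : Commute a y := by
      rcases trichotomy hD haD hyD with hc | ho' | ⟨h4', -⟩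
      · exact hc
      · exact absurd ho' hay
      · exact absurd h4' (n.nofour _ hbad' a haq y hyq)
    obtain ⟨jl, hjl, gl, hgl, hline⟩ := hl
    have hl' : Lineful D (i * q) := by
      obtain ⟨g, hg⟩ := (h.sub_cv hbad).cl ⟨jl, Subgroup.subset_closure hjl⟩ hjl
        ⟨q, Subgroup.subset_closure ⟨hrD, hri⟩⟩ ⟨hrD, hri⟩
      have hgq : q = (g : G) * jl * (g : G)⁻¹ := congrArg Subtype.val hg
      have hgi : Commute (g : G) i := by
        have : Subgroup.closure (Cv D i) ≤ Subgroup.centralizer {i} := by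
          rw [Subgroup.closure_le]
          exact fun z hz => Subgroup.mem_centralizer_singleton_iff.mpr hz.2.eq
        exact Subgroup.mem_centralizer_singleton_iff.mp (this g.2)
      refine ⟨q, hqq, (g : G) * gl * (g : G)⁻¹, ⟨conj_self hD _ hgl.1, ?_⟩,
        ⟨conj_self hD _ hgl.1, ?_, fun e => hline.1.2.2 ?_⟩, ?_⟩
      · refine ((hgi.mul_left hgl.2).mul_left hgi.inv_left).mul_right ?_
        rw [hgq]; exact RootInv12.commute_conj hline.1.2.1 _
      · rw [hgq]; exact RootInv12.commute_conj hline.1.2.1 _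
      · exact RootInv12.conj_injective _ (e.trans hgq)
      · rw [hgq, ← RootInv12.conj_mul']; exact conj_self hD _ hline.2
    exact not_comm_of_adj hD hyr (n.thin hbad' hl' haq hyq hqq hya' hmida.symm)
  · have h4' : (y * y') ^ 4 = 1 := RootInvolutions.pow_four_of_not_adj hD hyD hy'D hno
    obtain ⟨s1, hs1, e1⟩ := hpow 4
    rw [h4'] at e1
    refine hr1 (RootInv12.odd_pow_eq hrodd (i := 4) ?_)
    have hmem : r ^ (2 * 4) ∈ R0 := by
      rw [eq_inv_of_mul_eq_one_left e1.symm]; exact inv_mem hs1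
    rw [show 2 ^ 4 = 2 * 4 + 2 * 4 from rfl, pow_add]
    exact hsq _ hmem

end NCrit

end Cfsg.Agent.Lib.RootBlocks41
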