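import Cfsg.Agent.Lib.RootBlocks41.Crit
import Cfsg.Agent.Lib.RootBlocks41.Lineful
import Cfsg.Agent.Lib.RootBlocks41.Reach
import Cfsg.Agent.Lib.OddTransp84.Config

/-!
# A minimal class with blocks and a product of order four
-/

set_option autoImplicit false
set_option linter.unusedSectionVars false

namespace Cfsg.Agent.Lib.RootBlocks41

open Cfsg.Agent.Lib.Elem70

variable {G : Type*} [Group G] {D : Set G} {R : G → G → Prop}

/-- A minimal class with blocks and a product of order four. -/
structure NCrit (D : Set G) (R : G → G → Prop) : Prop where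
  blocks : Blocks D R
  four : HasFour D
  simple : IsSimpleGroup G
  nofour : ∀ v, Bad D R v → ∀ a ∈ Cv D v, ∀ b ∈ Cv D v, orderOf (a * b) ≠ 4

namespace NCrit

variable [Finite G] (n : NCrit D R)
include n

theorem hasLine : HasLine D := n.blocks.hasLine_of_four n.four

theorem conn : Cfsg.IsConnectedSet (Cfsg.OddAdj D) D := n.blocks.conn

/-- In a lineful centraliser two members commuting with a third commute. -/
theorem thin {v w p q : G} (hv : Bad D R v) (hl : Lineful D v) (hw : w ∈ Cv D v)
    (hp : p ∈ Cv D v) (hq : q ∈ Cv D v) (hwp : Commute w p) (hwq : Commute w q) :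
    Commute p q := by
  have h := n.blocks
  have hD := h.hD
  have hpair : ∀ a ∈ Cv D v, ∀ b ∈ Cv D v, Commute a b ∨ Odd (orderOf (a * b)) := by
    intro a ha b hb
    rcases trichotomy hD ha.1 hb.1 with hc | ho | ⟨h4, -⟩
    · exact Or.inl hc
    · exact Or.inr ho.2.2.2
    · exact absurd h4 (n.nofour v hv a ha b hb)
  obtain ⟨a0, ha0, b0, hb0, hab⟩ := hl
  have hB : OddTransp84.Base (Cv D v) := by
    refine ⟨fun a ha => RootInvolutions.mul_self hD ha.1, fun a ha => RootInvolutions.ne_one hD ha.1,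
      fun a ha b hb => ⟨conj_mem2 hD ha.1 hb.1, (ha.2.mul_left hb.2).mul_left ha.2⟩, hpair,
      fun y hy => ?_, fun y hy => ?_⟩
    · obtain ⟨g, hg⟩ := (h.sub_cv hv).cl ⟨a0, Subgroup.subset_closure ha0⟩ ha0
        ⟨y, Subgroup.subset_closure hy⟩ hy
      have hga : y = (g : G) * a0 * (g : G)⁻¹ := congrArg Subtype.val hg
      have hgv : Commute (g : G) v := by
        have : Subgroup.closure (Cv D v) ≤ Subgroup.centralizer {v} := by
          rw [Subgroup.closure_le]
          exact fun z hz => Subgroup.mem_centralizer_singleton_iff.mpr hz.2.eq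
        exact Subgroup.mem_centralizer_singleton_iff.mp (this g.2)
      subst hga
      have hab' : Commute b0 a0 := hab.1.2.1
      refine ⟨(g : G) * b0 * (g : G)⁻¹, ⟨conj_self hD _ hb0.1,
        (hgv.mul_left hb0.2).mul_left hgv.inv_left⟩,
        fun e => hab.1.2.2 (RootInv12.conj_injective _ e), RootInv12.commute_conj hab' _, ?_, ?_⟩
      · rw [← RootInv12.conj_mul', ← hab'.eq]; exact conj_self hD _ hab.2
      · rw [← RootInv12.conj_mul', ← hab'.eq]
        exact (hgv.mul_left (hb0.2.mul_left ha0.2)).mul_left hgv.inv_left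
    · obtain ⟨e, he, hev, hn⟩ := h.exists_far hv hy.1
      exact ⟨e, ⟨he, hev⟩, fun hc => hn (h.comm hy.1 he hc.symm)⟩
  by_contra hpq
  have hconn := (OddTransp84.cfg_and_conn (Cv D v) hB).2
    ⟨p, hp, q, hq, w, hw, hwp, hwq, hpq⟩
  obtain ⟨e, he, hev, hn⟩ := h.exists_far hv ha0.1
  refine hn ?_
  have key : ∀ {y}, OddTransp84.Reach (Cv D v) a0 y → R a0 y ∧ y ∈ D := by
    intro y hy
    induction hy with
    | refl => exact ⟨h.self ha0.1, ha0.1⟩
    | tail _ h2 ih =>
      exact ⟨h.trans ha0.1 ih.2 h2.2.1.1 ih.1 (h.comm ih.2 h2.2.1.1 h2.2.2), h2.2.1.1⟩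
  exact (key (hconn a0 ha0 e ⟨he, hev⟩)).1

/-- Commuting members are linked. -/
theorem linked_of_commute {a b : G} (ha : a ∈ D) (hb : b ∈ D) (hc : Commute a b) :
    Linked D a b := by
  have h := n.blocks
  have hD := h.hD
  by_cases hne : a = b
  · exact hne ▸ .refl
  by_cases ht : a * b ∈ D
  · exact .single ⟨ha, hb, hne, hc, ht⟩
  by_contra hnl
  set t := a * b with htdef
  have htt : t * t = 1 := mul_self_of_commute hD ha hb hc
  have ht1 : t ≠ 1 := mul_ne_one' hD hb hne
  have hta : Commute t a := (Commute.refl a).mul_left hc.symm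
  have htb : Commute t b := hc.mul_left (Commute.refl b)
  obtain ⟨x, hx, hm⟩ := h.exists_moved n.simple ht1
  obtain ⟨j, hj, hjt, hjx, hjc, -⟩ := h.exists_mid_of_moved htt hx hm
  have hbad := h.bad_of_mid htt hx hj (fun e => ht (e ▸ hj)) hjt hjx hjc
  have hat : a * t = b := by
    rw [htdef, ← mul_assoc, RootInvolutions.mul_self hD ha, one_mul]
  rcases trichotomy hD ha hj with haj | ho | ⟨h4, hg⟩
  · have hbj : Commute b j := hat ▸ haj.mul_left hjt.symm
    have hcore : ∀ {p q : G}, p ∈ D → q ∈ D → Commute p q →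
        (∀ z, Commute z p → Commute z q → Commute z t) → Commute p j →
        ¬ Linked D p j → ¬ Linked D p q → False := by
      intro p q hp hq hpq ht' hpj hn1 hn2
      obtain ⟨z, hz, u, hu, h4⟩ := four_in_partners hD h.cl n.four hp
      have hin : ∀ z ∈ Cfsg.productPartners D p, z ∈ Cv D (t * j) := fun z hz => by
        have hl : Linked D p z := .single (prodAdj_of_line hD hp hz)
        exact ⟨hz.1.1, (ht' z hz.1.2.1 (commute_component hD hp hq hpq.symm hn2 hl).symm).mul_right
          (commute_component hD hp hj hpj.symm hn1 hl).symm⟩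
      exact n.nofour _ hbad z (hin z hz) u (hin u hu) h4
    by_cases hl : Linked D a j
    · exact hcore hb ha hc.symm (fun z h1 h2 => htdef ▸ h2.mul_right h1) hbj
        (fun h' => hnl (hl.trans (linked_symm hD h'))) fun h' => hnl (linked_symm hD h')
    · exact hcore ha hb hc (fun z h1 h2 => htdef ▸ h1.mul_right h2) haj hl hnl
  · exact ht1 (parity hD ho (show a * t ∈ D by rw [hat]; exact hb) hta hjt.symm htt)
  · obtain ⟨-, hgj, hgA, -⟩ := sq_facts hD ha hj h4 hg
    have e : b * j = t * (a * j) := by rw [← hat, ← hta.eq, mul_assoc]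
    have hsq : (b * j) ^ 2 = (a * j) ^ 2 := by
      rw [e, (hta.mul_right hjt.symm).mul_pow, sq t, htt, one_mul]
    rcases trichotomy hD hb hj with hbj | ho | ⟨h4', hg'⟩
    · refine RootInvolutions.ne_one hD hg ?_
      rw [← hsq, sq, mul_self_of_commute hD hb hj hbj]
    · exact ht1 (parity hD ho (show b * t ∈ D by
        rw [htdef, ← mul_assoc, ← hc.eq, mul_assoc, RootInvolutions.mul_self hD hb, mul_one]
        exact ha) htb hjt.symm htt)
    · obtain ⟨-, -, hgB, -⟩ := sq_facts hD hb hj h4' hg'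
      rw [hsq] at hgB
      exact hnl ((Relation.ReflTransGen.single (prodAdj_of_line hD ha hgA)).tail
        (prodAdj_symm hD (prodAdj_of_line hD hb hgB)))

end NCrit

end Cfsg.Agent.Lib.RootBlocks41
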