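import Cfsg.Agent.Lib.RootBlocks41.NonDeg.Setup

/-!
# Members in a Sylow two-subgroup
-/

set_option autoImplicit false
set_option linter.unusedSectionVars false

namespace Cfsg.Agent.Lib.RootBlocks41

open Cfsg.Agent.Lib.Elem70

variable {G : Type*} [Group G] [Finite G] {D : Set G}

/-- Members in a Sylow subgroup. -/
def InSylow (D : Set G) (S : Sylow 2 G) : Set G := {d | d ∈ D ∧ d ∈ S}

/-- Members of a Sylow subgroup commuting with all such members. -/
def CentralIn (D : Set G) (S : Sylow 2 G) : Set G :=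
  {z | z ∈ InSylow D S ∧ ∀ d ∈ InSylow D S, Commute z d}

section

variable (hD : Cfsg.IsRootInvolutionSet D)
include hD

theorem nadj_of_two_group {P : Subgroup G} (hP : IsPGroup 2 P) {d e : G} (hd : d ∈ P)
    (he : e ∈ P) : ¬ Cfsg.OddAdj D d e := fun h => by
  obtain ⟨k, hk⟩ := hP ⟨d * e, mul_mem hd he⟩
  have h1 : d * e = 1 := RootInv12.odd_pow_eq h.2.2.2 (i := k)
    (by simpa using congrArg Subtype.val hk)
  exact h.2.2.1 (by rw [eq_inv_of_mul_eq_one_left h1, RootInvolutions.inv_self hD h.2.1])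

theorem ncard_inSylow (S S' : Sylow 2 G) : (InSylow D S).ncard = (InSylow D S').ncard := by
  haveI : Fact (Nat.Prime 2) := ⟨Nat.prime_two⟩
  obtain ⟨g, rfl⟩ := MulAction.exists_smul_eq G S S'
  rw [← Set.ncard_image_of_injective (InSylow D S) (RootInv12.conj_injective g)]
  congr 1
  ext x
  have hmem : x ∈ g • S ↔ g⁻¹ * x * g ∈ S := by
    rw [← SetLike.mem_coe, Sylow.coe_smul, Set.mem_smul_set_iff_inv_smul_mem]
    simp [MulAut.smul_def, MulAut.conj_apply]
  constructor
  · rintro ⟨d, ⟨hd, hdS⟩, rfl⟩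
    exact ⟨conj_self hD g hd, hmem.mpr (by simpa [mul_assoc] using hdS)⟩
  · rintro ⟨hx, hxS⟩
    exact ⟨g⁻¹ * x * g, ⟨by simpa using conj_self hD g⁻¹ hx, hmem.mp hxS⟩, by simp [mul_assoc]⟩

/-- A two-group containing the members of a Sylow subgroup has no further member. -/
theorem mem_inSylow_of_two_group {S : Sylow 2 G} {P : Subgroup G} (hP : IsPGroup 2 P)
    (hle : InSylow D S ⊆ P) {d : G} (hd : d ∈ D) (hdP : d ∈ P) : d ∈ InSylow D S := by
  obtain ⟨S', hS'⟩ := hP.exists_le_sylow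
  have heq : InSylow D S = InSylow D S' :=
    Set.eq_of_subset_of_ncard_le (fun x hx => ⟨hx.1, hS' (hle hx)⟩) (ncard_inSylow hD S' S).le
      (Set.toFinite _)
  rw [heq]
  exact ⟨hd, hS' hdP⟩

theorem exists_sylow_mem {a : G} (ha : a ∈ D) : ∃ S : Sylow 2 G, a ∈ InSylow D S := by
  haveI : Fact (Nat.Prime 2) := ⟨Nat.prime_two⟩
  obtain ⟨S, hS⟩ := (IsPGroup.of_card (p := 2) (n := 1)
    (by rw [Nat.card_zpowers, hD.orderOf_eq a ha, pow_one]) :
      IsPGroup 2 (Subgroup.zpowers a)).exists_le_sylow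
  exact ⟨S, ha, hS (Subgroup.mem_zpowers a)⟩

theorem sq_in_sylow {S : Sylow 2 G} {d e : G} (hd : d ∈ InSylow D S) (he : e ∈ InSylow D S)
    (hc : ¬ Commute d e) : orderOf (d * e) = 4 ∧ (d * e) ^ 2 ∈ InSylow D S := by
  rcases trichotomy hD hd.1 he.1 with h | h | ⟨h4, hg⟩
  · exact absurd h hc
  · exact absurd h (nadj_of_two_group hD S.2 hd.2 he.2)
  · exact ⟨h4, hg, pow_mem (mul_mem hd.2 he.2) 2⟩

theorem centralIn_nonempty {S : Sylow 2 G} (hne : (InSylow D S).Nonempty) :
    (CentralIn D S).Nonempty := by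
  haveI : Fact (Nat.Prime 2) := ⟨Nat.prime_two⟩
  set K := Subgroup.closure (InSylow D S) with hK
  have hK2 : IsPGroup 2 K := S.2.to_le ((Subgroup.closure_le _).mpr fun x hx => hx.2)
  obtain ⟨m, hm⟩ := (Subgroup.isNilpotent_iff_lowerCentralSeries K).mp hK2.isNilpotent
  by_contra hempty
  have hall : ∀ k, ∃ z ∈ InSylow D S, z ∈ K.lowerCentralSeries k := by
    intro k
    induction k with
    | zero => obtain ⟨z, hz⟩ := hne; exact ⟨z, hz, Subgroup.subset_closure hz⟩
    | succ k ih =>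
      obtain ⟨z, hz, hzk⟩ := ih
      obtain ⟨u, hu, hc⟩ : ∃ u ∈ InSylow D S, ¬ Commute z u := by
        by_contra hall
        push Not at hall
        exact hempty ⟨z, hz, hall⟩
      refine ⟨_, (sq_in_sylow hD hz hu hc).2, ?_⟩
      have e : (z * u) ^ 2 = z * u * z⁻¹ * u⁻¹ := by
        rw [sq, RootInvolutions.inv_self hD hz.1, RootInvolutions.inv_self hD hu.1, ← mul_assoc]
      rw [e, ← commutatorElement_def, Subgroup.lowerCentralSeries_succ]
      exact Subgroup.commutator_mem_commutator hzk (Subgroup.subset_closure hu)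
  obtain ⟨z, hz, hzm⟩ := hall m
  rw [hm, Subgroup.mem_bot] at hzm
  exact RootInvolutions.ne_one hD hz.1 hzm

/-- If the central members multiply into `D` some member is central in the Sylow subgroup. -/
theorem exists_fixed {S : Sylow 2 G} (hne : (InSylow D S).Nonempty)
    (hprod : ∀ a ∈ CentralIn D S, ∀ b ∈ CentralIn D S, a ≠ b → a * b ∈ D) :
    ∃ a ∈ D, ∀ s ∈ S, Commute s a := by
  haveI : Fact (Nat.Prime 2) := ⟨Nat.prime_two⟩
  have hne' := centralIn_nonempty hD hne
  let E : Subgroup G :=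
    { carrier := insert 1 (CentralIn D S)
      one_mem' := Or.inl rfl
      mul_mem' := fun {a b} ha hb => by
        rcases ha with rfl | ha
        · simpa using hb
        rcases hb with rfl | hb
        · simpa using Or.inr ha
        by_cases hab : a = b
        · exact Or.inl (by rw [hab]; exact RootInvolutions.mul_self hD hb.1.1)
        · exact Or.inr ⟨⟨hprod a ha b hb hab, mul_mem ha.1.2 hb.1.2⟩,
            fun d hd => (ha.2 d hd).mul_left (hb.2 d hd)⟩
      inv_mem' := fun {a} ha => by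
        rcases ha with rfl | ha
        · simp
        · rw [RootInvolutions.inv_self hD ha.1.1]; exact Or.inr ha }
  have hE2 : IsPGroup 2 E := S.2.to_le fun x hx => by
    rcases hx with rfl | hx
    · exact one_mem _
    · exact hx.1.2
  obtain ⟨k, hk⟩ := IsPGroup.iff_card.mp hE2
  have hcard : Nat.card E = (CentralIn D S).ncard + 1 := by
    have h1 : (1 : G) ∉ CentralIn D S := fun h => RootInvolutions.ne_one hD h.1.1 rfl
    rw [← Set.ncard_insert_of_notMem h1 (Set.toFinite _)]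
    exact Nat.card_coe_set_eq _
  have hZodd : Odd (CentralIn D S).ncard := by
    have hpos := (Set.ncard_pos (Set.toFinite _)).mpr hne'
    rcases Nat.eq_zero_or_pos k with rfl | hk0
    · rw [pow_zero] at hk; omega
    · have : Even (2 ^ k) := Nat.even_pow.mpr ⟨even_two, by omega⟩
      rw [← hk, hcard, Nat.even_add_one, Nat.not_even_iff_odd] at this
      exact this
  have hconj : ∀ s ∈ S, ∀ z ∈ CentralIn D S, s * z * s⁻¹ ∈ CentralIn D S := by
    rintro s hs z ⟨⟨hzD, hzS⟩, hz⟩
    refine ⟨⟨conj_self hD s hzD, mul_mem (mul_mem hs hzS) (inv_mem hs)⟩, fun d hd => ?_⟩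
    have hd' : s⁻¹ * d * s ∈ InSylow D S :=
      ⟨by simpa using conj_self hD s⁻¹ hd.1, mul_mem (mul_mem (inv_mem hs) hd.2) hs⟩
    have := RootInv12.commute_conj (hz _ hd') s
    simpa [mul_assoc] using this
  let X := {z : G // z ∈ CentralIn D S}
  letI : MulAction ↥(S : Subgroup G) X :=
    { smul := fun s z => ⟨s * z.1 * (s : G)⁻¹, hconj s s.2 z.1 z.2⟩
      one_smul := fun z => Subtype.ext (show (1 : G) * z.1 * (1 : G)⁻¹ = z.1 by simp)
      mul_smul := fun s t z => Subtype.ext (by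
        show ((s * t : ↥(S : Subgroup G)) : G) * z.1 * ((s * t : ↥(S : Subgroup G)) : G)⁻¹ =
          s * ((t : G) * z.1 * (t : G)⁻¹) * (s : G)⁻¹
        rw [Subgroup.coe_mul, RootInv12.conj_conj]) }
  have hmod := IsPGroup.card_modEq_card_fixedPoints (p := 2) S.2 X
  have hX : Odd (Nat.card X) := by
    rw [show Nat.card X = (CentralIn D S).ncard from Nat.card_coe_set_eq _]; exact hZodd
  have hfix : 0 < Nat.card (MulAction.fixedPoints ↥(S : Subgroup G) X) := by
    rcases Nat.eq_zero_or_pos (Nat.card (MulAction.fixedPoints ↥(S : Subgroup G) X)) with h0 | h0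
    · rw [h0] at hmod
      exact absurd (even_iff_two_dvd.mpr ((Nat.modEq_zero_iff_dvd).mp hmod))
        (Nat.not_even_iff_odd.mpr hX)
    · exact h0
  obtain ⟨⟨⟨z, hz⟩, hzfix⟩⟩ := (Nat.card_pos_iff.mp hfix).1
  refine ⟨z, hz.1.1, fun s hs => ?_⟩
  have : s * z * s⁻¹ = z := congrArg Subtype.val (hzfix ⟨s, hs⟩)
  exact mul_inv_eq_iff_eq_mul.mp this

end

end Cfsg.Agent.Lib.RootBlocks41
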